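import Mathlib

/-!
# Counting algebra maps from a finite-dimensional algebra into a field
-/

set_option autoImplicit false
set_option linter.unusedSectionVars false
set_option linter.unusedVariables false
set_option linter.unusedSimpArgs false
set_option linter.style.haveILetI false
set_option maxHeartbeats 400000

namespace Groth.Agent.Lib.Helper6.SepDegSum

open TensorProduct

section G

variable {F C L Ω : Type*} [Field F] [CommRing C] [Algebra F C] [Field L] [Algebra F L]
  [Field Ω] [Algebra F Ω] (π : C →ₐ[F] L) (hπ : Function.Surjective π)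

theorem ker_comp_eq (ψ : L →ₐ[F] Ω) :
    RingHom.ker (ψ.comp π : C →ₐ[F] Ω) = RingHom.ker π := by
  ext x
  rw [RingHom.mem_ker, RingHom.mem_ker, AlgHom.comp_apply]
  constructor
  · intro h
    exact (map_eq_zero_iff ψ (RingHom.injective (ψ : L →+* Ω))).1 h
  · intro h
    rw [h, map_zero]

include hπ in
theorem surj_ringHom : Function.Surjective (π : C →+* L) := hπ

/-- Algebra maps `C → Ω` with the same kernel as the surjection `π : C → L` onto a field correspond
to algebra maps `L → Ω`. -/
noncomputable def fiberEquiv :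
    {φ : C →ₐ[F] Ω // RingHom.ker φ = RingHom.ker π} ≃ (L →ₐ[F] Ω) where
  toFun φ :=
    { toRingHom := (π : C →+* L).liftOfSurjective (surj_ringHom π hπ)
        ⟨(φ.1 : C →+* Ω), le_of_eq φ.2.symm⟩
      commutes' := fun r => by
        have h1 : algebraMap F L r = (π : C →+* L) (algebraMap F C r) := (π.commutes r).symm
        change ((π : C →+* L).liftOfSurjective (surj_ringHom π hπ)
          ⟨(φ.1 : C →+* Ω), le_of_eq φ.2.symm⟩) (algebraMap F L r) = _
        rw [h1, RingHom.liftOfSurjective_comp_apply]
        exact φ.1.commutes r }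
  invFun ψ := ⟨ψ.comp π, ker_comp_eq π ψ⟩
  left_inv φ := by
    apply Subtype.ext
    apply AlgHom.ext
    intro x
    change ((π : C →+* L).liftOfSurjective (surj_ringHom π hπ)
      ⟨(φ.1 : C →+* Ω), le_of_eq φ.2.symm⟩) ((π : C →+* L) x) = _
    rw [RingHom.liftOfSurjective_comp_apply]
    rfl
  right_inv ψ := by
    apply AlgHom.ext
    intro y
    obtain ⟨x, rfl⟩ := hπ y
    change ((π : C →+* L).liftOfSurjective (surj_ringHom π hπ)
      ⟨((ψ.comp π : C →ₐ[F] Ω) : C →+* Ω), _⟩) ((π : C →+* L) x) = _
    rw [RingHom.liftOfSurjective_comp_apply]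
    rfl

end G

section H

variable (F C Ω : Type*) [Field F] [CommRing C] [Algebra F C] [Module.Finite F C]
  [Field Ω] [Algebra F Ω]

theorem ker_isMaximal (φ : C →ₐ[F] Ω) : (RingHom.ker φ).IsMaximal := by
  haveI : IsArtinianRing C := IsArtinianRing.of_finite F C
  haveI : (RingHom.ker φ).IsPrime := RingHom.ker_isPrime φ
  exact IsArtinianRing.isMaximal_of_isPrime _

/-- The kernel of an algebra map to a field, as a point of the maximal spectrum. -/
noncomputable def kerPt (φ : C →ₐ[F] Ω) : MaximalSpectrum C :=
  ⟨RingHom.ker φ, ker_isMaximal F C Ω φ⟩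

/-- The residue field map as an `F`-algebra map. -/
noncomputable def resMap (m : MaximalSpectrum C) : C →ₐ[F] m.asIdeal.ResidueField :=
  IsScalarTower.toAlgHom F C m.asIdeal.ResidueField

theorem resMap_surjective (m : MaximalSpectrum C) : Function.Surjective (resMap F C m) :=
  haveI := m.isMaximal
  m.asIdeal.algebraMap_residueField_surjective

theorem ker_resMap (m : MaximalSpectrum C) : RingHom.ker (resMap F C m) = m.asIdeal :=
  Ideal.ker_algebraMap_residueField (I := m.asIdeal)

/-- Algebra maps from a finite-dimensional algebra to a field, sorted by their kernel. -/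
noncomputable def homEquivSigma :
    (C →ₐ[F] Ω) ≃ Σ m : MaximalSpectrum C, (m.asIdeal.ResidueField →ₐ[F] Ω) :=
  (Equiv.sigmaFiberEquiv (kerPt F C Ω)).symm.trans
    (Equiv.sigmaCongrRight fun m =>
      (Equiv.subtypeEquivRight (fun φ => by
        rw [ker_resMap, MaximalSpectrum.ext_iff]
        rfl)).trans (fiberEquiv (resMap F C m) (resMap_surjective F C m)))

instance finite_residueField (m : MaximalSpectrum C) : Module.Finite F m.asIdeal.ResidueField :=
  haveI := m.isMaximal
  Module.Finite.trans C _

theorem card_hom_eq_sum [Fintype (MaximalSpectrum C)] :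
    Nat.card (C →ₐ[F] Ω) =
      ∑ m : MaximalSpectrum C, Nat.card (m.asIdeal.ResidueField →ₐ[F] Ω) := by
  rw [Nat.card_congr (homEquivSigma F C Ω), Nat.card_sigma]

end H

section Loc

variable (F A Ω : Type*) [Field F] [CommRing A] [Algebra F A] [Module.Finite F A] [IsLocalRing A]
  [Field Ω] [Algebra F Ω]

/-- The residue map of a local algebra as an algebra map. -/
noncomputable def resLoc : A →ₐ[F] IsLocalRing.ResidueField A :=
  IsScalarTower.toAlgHom F A (IsLocalRing.ResidueField A)

theorem ker_resLoc : RingHom.ker (resLoc F A) = IsLocalRing.maximalIdeal A :=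
  IsLocalRing.ker_residue (R := A)

theorem card_hom_local :
    Nat.card (A →ₐ[F] Ω) = Nat.card (IsLocalRing.ResidueField A →ₐ[F] Ω) := by
  refine Nat.card_congr ?_
  refine (Equiv.subtypeUnivEquiv (p := fun φ : A →ₐ[F] Ω =>
    RingHom.ker φ = RingHom.ker (resLoc F A)) ?_).symm.trans
    (fiberEquiv (resLoc F A) IsLocalRing.residue_surjective)
  intro φ
  rw [ker_resLoc]
  exact IsLocalRing.eq_maximalIdeal (ker_isMaximal F A Ω φ)

end Loc

section Main

universe u

variable (k A k' : Type u) [Field k] [CommRing A] [Algebra k A]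
    [Module.Finite k A] [IsLocalRing A] [Field k'] [Algebra k k']

theorem main :
    Field.finSepDegree k (IsLocalRing.ResidueField A) =
      ∑ᶠ m : MaximalSpectrum (k' ⊗[k] A),
        Field.finSepDegree k' (IsLocalRing.ResidueField (Localization.AtPrime m.asIdeal)) := by
  haveI : IsArtinianRing (k' ⊗[k] A) := IsArtinianRing.of_finite k' (k' ⊗[k] A)
  letI : Fintype (MaximalSpectrum (k' ⊗[k] A)) := Fintype.ofFinite _
  rw [finsum_eq_sum_of_fintype]
  rw [Field.finSepDegree_eq_of_isAlgClosed k (IsLocalRing.ResidueField A) (AlgebraicClosure k'),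
    ← card_hom_local k A (AlgebraicClosure k'),
    Nat.card_congr (Algebra.TensorProduct.liftEquivRight k k' A (AlgebraicClosure k')),
    card_hom_eq_sum k' (k' ⊗[k] A) (AlgebraicClosure k')]
  refine Finset.sum_congr rfl fun m _ => ?_
  exact (Field.finSepDegree_eq_of_isAlgClosed k' _ (AlgebraicClosure k')).symm

end Main

end Groth.Agent.Lib.Helper6.SepDegSum
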